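import Groth.Prelude.Def_Coh
import Groth.Agent.Lib.Ample.Extend

/-!
# Invertible modules on a Frobenius split scheme

`M → M^{⊗ p}`, `m ↦ m^{⊗ p}` is a split monomorphism of sheaves of abelian groups.
-/

set_option autoImplicit false

noncomputable section

universe u

open CategoryTheory CategoryTheory.Limits AlgebraicGeometry Opposite TopologicalSpace

namespace Groth.Agent.Lib.FrobSplit53.Basic

open TensorMod TensorMod.Dual TensorMod.Gen TensorMod.HomGlue Ample.Extend

variable {X : Scheme.{u}} {ι : Type*} {U : ι → X.Opens} {L M : X.Modules}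

/-- An additive morphism from compatible images of generators and a natural additive operation on
functions. -/
theorem exists_addHom_of_gen (hU : iSup U = ⊤) (e : ∀ i, Γ(L, U i)) (he : ∀ i, IsGen L (U i) (e i))
    (m : ∀ i, Γ(M, U i)) (F : ∀ V : X.Opens, Γ(X, V) →+ Γ(X, V))
    (hF : ∀ (V W : X.Opens) (h : W ≤ V) (a : Γ(X, V)), rf h (F V a) = F W (rf h a))
    (hm : ∀ (i j : ι) (W : X.Opens) (hi : W ≤ U i) (hj : W ≤ U j) (a c : Γ(X, W)),
      rs L hi (e i) = c • rs L hj (e j) → F W a • rs M hi (m i) = F W (a * c) • rs M hj (m j)) :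
    ∃ φ : Coh.toAb L ⟶ Coh.toAb M, ∀ (i : ι) (V : X.Opens) (hV : V ≤ U i) (a : Γ(X, V)),
      @id Γ(M, V) (φ.hom.app (op V) (a • rs L hV (e i))) = F V a • rs M hV (m i) := by
  have h : ∀ (V : X.Opens) (x : Γ(L, V)), ∃! y : Γ(M, V), ∀ i, ∀ a : Γ(X, V ⊓ U i),
      rs L inf_le_left x = a • rs L inf_le_right (e i) →
        rs M inf_le_left y = F _ a • rs M inf_le_right (m i) := by
    intro V x
    let a : ∀ i, Γ(X, V ⊓ U i) := fun i => ((he i (V ⊓ U i) inf_le_right).2 (rs L inf_le_left x)).choose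
    have ha : ∀ i, a i • rs L inf_le_right (e i) = rs L inf_le_left x := fun i =>
      ((he i (V ⊓ U i) inf_le_right).2 (rs L inf_le_left x)).choose_spec
    obtain ⟨y, hy, huy⟩ := TopCat.Sheaf.existsUnique_gluing'
      (⟨M.presheaf, M.isSheaf⟩ : TopCat.Sheaf Ab.{u} X) (fun i => V ⊓ U i) V
      (fun i => homOfLE inf_le_left) (by rw [← inf_iSup_eq, hU]; exact le_inf le_rfl le_top)
      (fun i => F _ (a i) • rs M inf_le_right (m i)) fun i j => by
        let W := (V ⊓ U i) ⊓ (V ⊓ U j)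
        change rs M (inf_le_left : W ≤ V ⊓ U i) _ = rs M (inf_le_right : W ≤ V ⊓ U j) _
        obtain ⟨c, hc⟩ := (he j W (inf_le_right.trans inf_le_right)).2
          (rs L (inf_le_left.trans inf_le_right : W ≤ U i) (e i))
        have hx : rs L (inf_le_left : W ≤ V ⊓ U i) (rs L inf_le_left x) =
            rs L (inf_le_right : W ≤ V ⊓ U j) (rs L inf_le_left x) := by rw [rs_rs, rs_rs]
        rw [← ha i, ← ha j, rs_smul, rs_smul, rs_rs, rs_rs, ← hc, smul_smul] at hx
        have hcoef := (he j W (inf_le_right.trans inf_le_right)).1 hx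
        rw [rs_smul, rs_smul, rs_rs, rs_rs, hF _ _ (inf_le_left : W ≤ V ⊓ U i),
          hF _ _ (inf_le_right : W ≤ V ⊓ U j), hm i j W _ _ _ c hc.symm, hcoef]
    refine ⟨y, fun i b hb => ?_, fun y' hy' => huy y' fun i => hy' i (a i) (ha i).symm⟩
    rw [← ha i] at hb
    rw [← (he i (V ⊓ U i) inf_le_right).1 hb]
    exact hy i
  choose val hval huniq using h
  have hadd : ∀ (V : X.Opens) (x x' : Γ(L, V)), val V (x + x') = val V x + val V x' := by
    intro V x x'
    refine (huniq V _ _ fun i b hb => ?_).symm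
    obtain ⟨a, ha⟩ := (he i (V ⊓ U i) inf_le_right).2 (rs L inf_le_left x)
    obtain ⟨a', ha'⟩ := (he i (V ⊓ U i) inf_le_right).2 (rs L inf_le_left x')
    simp only at ha ha'
    rw [rs_add, ← ha, ← ha', ← add_smul] at hb
    rw [rs_add, hval V x i a ha.symm, hval V x' i a' ha'.symm, ← add_smul, ← map_add,
      (he i (V ⊓ U i) inf_le_right).1 hb]
  have hnat : ∀ (V W : X.Opens) (h : W ≤ V) (x : Γ(L, V)),
      rs M h (val V x) = val W (rs L h x) := by
    intro V W hWV x
    refine huniq W _ _ fun i b hb => ?_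
    obtain ⟨a, ha⟩ := (he i (V ⊓ U i) inf_le_right).2 (rs L inf_le_left x)
    simp only at ha
    have h' : W ⊓ U i ≤ V ⊓ U i := inf_le_inf_right _ hWV
    have h1 := congrArg (rs L h') ha
    rw [rs_smul, rs_rs, rs_rs] at h1
    rw [rs_rs] at hb
    have h2 := (he i (W ⊓ U i) inf_le_right).1 (h1.trans hb)
    rw [rs_rs, ← h2, ← rs_rs M inf_le_left h', hval V x i a ha.symm, rs_smul, rs_rs, hF _ _ h']
  let φ : Coh.toAb L ⟶ Coh.toAb M := ⟨
    { app := fun V => AddCommGrpCat.ofHom (AddMonoidHom.mk' (val V.unop) (hadd V.unop) :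
        Γ(L, V.unop) →+ Γ(M, V.unop))
      naturality := fun V W g => by
        ext x
        exact (hnat V.unop W.unop g.unop.le x).symm }⟩
  refine ⟨φ, fun i V hV a => ?_⟩
  change val V (a • rs L hV (e i)) = _
  refine (huniq V _ _ fun j b hb => ?_).symm
  rw [rs_smul, rs_rs] at hb
  obtain ⟨c, hc⟩ := (he j (V ⊓ U j) inf_le_right).2 (rs L (inf_le_left.trans hV) (e i))
  simp only at hc
  rw [← hc, smul_smul] at hb
  rw [rs_smul, rs_rs, hF _ _ inf_le_left, hm i j _ _ _ _ c hc.symm,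
    (he j (V ⊓ U j) inf_le_right).1 hb]

/-- Frobenius splitting passes to invertible modules. -/
theorem exists_split (p : ℕ) (φ : Coh.toAb (Coh.structureModule X) ⟶ Coh.toAb (Coh.structureModule X))
    (hφ : ∀ (U : X.Opens) (t : Γ(X, U)), φ.hom.app (op U) t = t ^ p)
    (s : Coh.toAb (Coh.structureModule X) ⟶ Coh.toAb (Coh.structureModule X))
    (hs : φ ≫ s = 𝟙 _)
    (hlin : ∀ (U : X.Opens) (a b : Γ(X, U)),
      s.hom.app (op U) (a ^ p * b) = a * @id Γ(X, U) (s.hom.app (op U) b))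
    (L : X.Modules) (hL : PicF.IsInvertible L) :
    ∃ (f : Coh.toAb L ⟶ Coh.toAb (CohB1.tensorPow L p))
      (g : Coh.toAb (CohB1.tensorPow L p) ⟶ Coh.toAb L), f ≫ g = 𝟙 _ := by
  choose U e hx he using fun x => isInvertible_iff.1 hL x
  have hU : iSup U = ⊤ := top_le_iff.1 fun x _ => Opens.mem_iSup.2 ⟨x, hx x⟩
  let P : ∀ V : X.Opens, Γ(X, V) →+ Γ(X, V) := fun V => (φ.hom.app (op V)).hom
  let S : ∀ V : X.Opens, Γ(X, V) →+ Γ(X, V) := fun V => (s.hom.app (op V)).hom
  have hP : ∀ V (a : Γ(X, V)), P V a = a ^ p := fun V a => hφ V a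
  have hPn : ∀ (V W : X.Opens) (h : W ≤ V) (a : Γ(X, V)), rf h (P V a) = P W (rf h a) := fun V W h a => by
    rw [hP, hP]
    exact map_pow (X.presheaf.map (homOfLE h).op).hom a p
  have hSn : ∀ (V W : X.Opens) (h : W ≤ V) (a : Γ(X, V)), rf h (S V a) = S W (rf h a) := fun V W h a =>
    (NatTrans.naturality_apply s.hom (homOfLE h).op a).symm
  have hep : ∀ (i : X) {W : X.Opens} (hi : W ≤ U i),
      rs (CohB1.tensorPow L p) hi (powSec (e i) p) = powSec (rs L hi (e i)) p := fun i _ hi =>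
    rs_powSec hi (e i) p
  obtain ⟨f, hf⟩ := exists_addHom_of_gen hU e he (fun i => powSec (e i) p) P hPn
    fun i j W hi hj a c hc => by
      rw [hep, hep, hc, powSec_smul, smul_smul, hP, hP, mul_pow]
  obtain ⟨g, hg⟩ := exists_addHom_of_gen hU (fun i => powSec (e i) p)
    (fun i => isGen_powSec (he i) p) e S hSn fun i j W hi hj a c hc => by
      obtain ⟨d, hd⟩ := (he j W hj).2 (rs L hi (e i))
      simp only at hd
      rw [hep, hep, ← hd, powSec_smul] at hc
      have hcd : d ^ p = c := ((isGen_powSec ((he j).res hj) p) W le_rfl).1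
        (by simp only [rs_self]; exact hc)
      rw [← hd, smul_smul, ← hcd]
      congr 1
      change @id Γ(X, W) (s.hom.app (op W) a) * d = @id Γ(X, W) (s.hom.app (op W) (a * d ^ p))
      rw [mul_comm a (d ^ p), hlin, mul_comm]
      rfl
  refine ⟨f, g, ?_⟩
  ext V x
  refine sections_ext_cover U L (V := V.unop) (by rw [hU]; exact le_top) fun i => ?_
  obtain ⟨a, ha⟩ := (he i (V.unop ⊓ U i) inf_le_right).2 (rs L inf_le_left x)
  simp only at ha
  refine (NatTrans.naturality_apply (f ≫ g).hom (homOfLE (inf_le_left : V.unop ⊓ U i ≤ V.unop)).op x).symm.trans ?_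
  change @id Γ(L, V.unop ⊓ U i) (g.hom.app _ (f.hom.app _ (rs L inf_le_left x))) = _
  rw [← ha]
  have hss : S (V.unop ⊓ U i) (P (V.unop ⊓ U i) a) = a :=
    ConcreteCategory.congr_hom
      (congrArg (fun t : Coh.toAb (Coh.structureModule X) ⟶ Coh.toAb (Coh.structureModule X) =>
        t.hom.app (op (V.unop ⊓ U i))) hs) a
  have h1 := hf i _ inf_le_right a
  have h2 := hg i _ inf_le_right (P _ a)
  rw [hss] at h2
  exact ((congrArg (fun y => @id Γ(L, V.unop ⊓ U i) (g.hom.app _ y)) h1).trans h2).trans ha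

end Groth.Agent.Lib.FrobSplit53.Basic
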